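import Mathlib

/-!
# Isomorphisms of finitely generated Hopf algebras over an algebraically closed field
do not see field extensions
-/

set_option autoImplicit false
set_option synthInstance.maxHeartbeats 400000

open TensorProduct

universe u

noncomputable section

namespace Groth.Agent.HopfGeomIso

variable {k : Type u} [Field k] {R R' : Type u} [CommRing R] [Algebra k R] [CommRing R'] [Algebra k R']
  {B C : Type u} [CommRing B] [Algebra k B] [CommRing C] [Algebra k C]

open Algebra.TensorProduct

/-- Change of coefficients. -/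
abbrev coef (f : R →ₐ[k] R') (C : Type u) [CommRing C] [Algebra k C] : R ⊗[k] C →ₐ[k] R' ⊗[k] C :=
  Algebra.TensorProduct.map f (AlgHom.id k C)

/-- Evaluation at a rational point. -/
abbrev ev (p : R →ₐ[k] k) (C : Type u) [CommRing C] [Algebra k C] : R ⊗[k] C →ₐ[k] C :=
  (Algebra.TensorProduct.lid k C).toAlgHom.comp (coef p C)

/-- The extension of a family of maps to the base ring. -/
abbrev ext' (φ : B →ₐ[k] R ⊗[k] C) : R ⊗[k] B →ₐ[k] R ⊗[k] C :=
  Algebra.TensorProduct.lift includeLeft φ (fun _ _ => Commute.all _ _)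

/-- The square of a family of maps. -/
abbrev sq (φ : B →ₐ[k] R ⊗[k] C) : B ⊗[k] B →ₐ[k] R ⊗[k] (C ⊗[k] C) :=
  Algebra.TensorProduct.lift
    ((Algebra.TensorProduct.map (AlgHom.id k R) includeLeft).comp φ)
    ((Algebra.TensorProduct.map (AlgHom.id k R) includeRight).comp φ)
    (fun _ _ => Commute.all _ _)

theorem coef_ext' (f : R →ₐ[k] R') (φ : B →ₐ[k] R ⊗[k] C) (x : R ⊗[k] B) :
    coef f C (ext' φ x) = ext' ((coef f C).comp φ) (coef f B x) := by
  induction x using TensorProduct.induction_on with
  | zero => simp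
  | add x y hx hy => simp only [map_add, hx, hy]
  | tmul r b => simp

theorem ev_ext' (p : R →ₐ[k] k) (φ : B →ₐ[k] R ⊗[k] C) (x : R ⊗[k] B) :
    ev p C (ext' φ x) = ((ev p C).comp φ) (ev p B x) := by
  induction x using TensorProduct.induction_on with
  | zero => simp
  | add x y hx hy => simp only [map_add, hx, hy]
  | tmul r b => simp [Algebra.smul_def]

theorem coef_map {D : Type u} [CommRing D] [Algebra k D] (f : R →ₐ[k] R') (g : C →ₐ[k] D) (x : R ⊗[k] C) :
    coef f D (Algebra.TensorProduct.map (AlgHom.id k R) g x) =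
      Algebra.TensorProduct.map (AlgHom.id k R') g (coef f C x) := by
  induction x using TensorProduct.induction_on with
  | zero => simp
  | add x y hx hy => simp only [map_add, hx, hy]
  | tmul r b => simp

theorem ev_map {D : Type u} [CommRing D] [Algebra k D] (p : R →ₐ[k] k) (g : C →ₐ[k] D) (x : R ⊗[k] C) :
    ev p D (Algebra.TensorProduct.map (AlgHom.id k R) g x) = g (ev p C x) := by
  induction x using TensorProduct.induction_on with
  | zero => simp
  | add x y hx hy => simp only [map_add, hx, hy]
  | tmul r b => simp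

theorem coef_sq (f : R →ₐ[k] R') (φ : B →ₐ[k] R ⊗[k] C) (x : B ⊗[k] B) :
    coef f (C ⊗[k] C) (sq φ x) = sq ((coef f C).comp φ) x := by
  induction x using TensorProduct.induction_on with
  | zero => simp
  | add x y hx hy => simp only [map_add, hx, hy]
  | tmul a b => simp only [sq, lift_tmul, map_mul, AlgHom.comp_apply, coef_map]

theorem ev_sq (p : R →ₐ[k] k) (φ : B →ₐ[k] R ⊗[k] C) (x : B ⊗[k] B) :
    ev p (C ⊗[k] C) (sq φ x) = Algebra.TensorProduct.map ((ev p C).comp φ) ((ev p C).comp φ) x := by
  induction x using TensorProduct.induction_on with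
  | zero => simp
  | add x y hx hy => simp only [map_add, hx, hy]
  | tmul a b =>
    rw [sq, lift_tmul, map_mul]
    erw [ev_map, ev_map]
    simp

theorem coef_injective (f : R →ₐ[k] R') (hf : Function.Injective f) : Function.Injective (coef f C) :=
  Module.Flat.rTensor_preserves_injective_linearMap (M := C) f.toLinearMap hf

theorem exists_fg (φ : B →ₐ[k] R ⊗[k] C) [Algebra.FiniteType k B] :
    ∃ R₀ : Subalgebra k R, R₀.FG ∧ ∀ R₁ : Subalgebra k R, R₀ ≤ R₁ → φ.range ≤ (coef R₁.val C).range := by
  classical
  obtain ⟨t, ht⟩ := (Algebra.FiniteType.out : (⊤ : Subalgebra k B).FG)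
  choose S hS using fun b : B => TensorProduct.exists_finset (φ b)
  refine ⟨Algebra.adjoin k ((t.biUnion fun b => (S b).image Prod.fst : Finset R) : Set R),
    Subalgebra.fg_adjoin_finset _, fun R₁ hR₁ => ?_⟩
  rw [← Algebra.map_top, ← ht, AlgHom.map_adjoin, Algebra.adjoin_le_iff]
  rintro _ ⟨b, hb, rfl⟩
  rw [SetLike.mem_coe, hS b]
  refine Subalgebra.sum_mem _ fun i hi => ?_
  have hmem : i.1 ∈ R₁ := hR₁ (Algebra.subset_adjoin (Finset.mem_biUnion.2 ⟨b, hb, Finset.mem_image.2 ⟨i, hi, rfl⟩⟩))
  exact ⟨(⟨i.1, hmem⟩ : R₁) ⊗ₜ i.2, by simp⟩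

theorem exists_point [IsAlgClosed k] [Nontrivial R] (hR : Algebra.FiniteType k R) : Nonempty (R →ₐ[k] k) := by
  obtain ⟨m, hm⟩ := Ideal.exists_maximal R
  letI := Ideal.Quotient.field m
  haveI : Algebra.FiniteType k (R ⧸ m) :=
    hR.of_surjective (Ideal.Quotient.mkₐ k m) (Ideal.Quotient.mkₐ_surjective k m)
  haveI : Module.Finite k (R ⧸ m) := finite_of_finite_type_of_isJacobsonRing k (R ⧸ m)
  exact ⟨(IsAlgClosed.lift (R := k) (M := k)).comp (Ideal.Quotient.mkₐ k m)⟩

section Hopf

variable [IsAlgClosed k] {K : Type u} [Field K] [Algebra k K] {A : Type u} [CommRing A] [HopfAlgebra k A]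
  {A' : Type u} [CommRing A'] [HopfAlgebra k A'] [Algebra.FiniteType k A] [Algebra.FiniteType k A']

theorem distrib_sq (x y : K ⊗[k] A') :
    TensorProduct.AlgebraTensorModule.distribBaseChange k K A' A'
      (Algebra.TensorProduct.map (AlgHom.id k K) (includeLeft : A' →ₐ[k] A' ⊗[k] A') x *
        Algebra.TensorProduct.map (AlgHom.id k K) (includeRight : A' →ₐ[k] A' ⊗[k] A') y) = x ⊗ₜ[K] y := by
  induction x using TensorProduct.induction_on with
  | zero => simp
  | add x x' hx hx' => simp only [map_add, add_mul, TensorProduct.add_tmul, hx, hx']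
  | tmul s a =>
    induction y using TensorProduct.induction_on with
    | zero => simp
    | add y y' hy hy' => simp only [map_add, mul_add, TensorProduct.tmul_add, hy, hy']
    | tmul t b =>
      simp only [Algebra.TensorProduct.map_tmul, AlgHom.id_apply, includeLeft_apply, includeRight_apply,
        Algebra.TensorProduct.tmul_mul_tmul, mul_one, one_mul,
        TensorProduct.AlgebraTensorModule.distribBaseChange_tmul]
      rw [show (s * t) ⊗ₜ[k] a = t • (s ⊗ₜ[k] a) by rw [TensorProduct.smul_tmul', smul_eq_mul, mul_comm],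
        TensorProduct.smul_tmul, TensorProduct.smul_tmul', smul_eq_mul, mul_one]

theorem distrib_comul {D : Type u} [CommRing D] [HopfAlgebra k D] (x : K ⊗[k] D) :
    TensorProduct.AlgebraTensorModule.distribBaseChange k K D D
      (Algebra.TensorProduct.map (AlgHom.id k K) (Bialgebra.comulAlgHom k D) x) =
      Coalgebra.comul (R := K) x := by
  induction x using TensorProduct.induction_on with
  | zero => simp
  | add x y hx hy => simp only [map_add, hx, hy]
  | tmul s d =>
    simp only [Algebra.TensorProduct.map_tmul, AlgHom.id_apply, Bialgebra.comulAlgHom_apply,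
      TensorProduct.comul_tmul, CommSemiring.comul_apply]
    induction Coalgebra.comul (R := k) d using TensorProduct.induction_on with
    | zero => simp
    | add x y hx hy => simp only [TensorProduct.tmul_add, map_add, hx, hy]
    | tmul x y =>
      simp
      rw [show s ⊗ₜ[k] x = s • ((1 : K) ⊗ₜ[k] x) by rw [TensorProduct.smul_tmul', smul_eq_mul, mul_one],
        show s ⊗ₜ[k] y = s • ((1 : K) ⊗ₜ[k] y) by rw [TensorProduct.smul_tmul', smul_eq_mul, mul_one]]
      exact TensorProduct.smul_tmul _ _ _

/-- Over an algebraically closed field two finitely generated Hopf algebras which become isomorphic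
over some extension field are isomorphic. -/
theorem nonempty_bialgEquiv (Φ : (K ⊗[k] A) ≃ₐc[K] (K ⊗[k] A')) : Nonempty (A ≃ₐc[k] A') := by
  let F : K ⊗[k] A →ₐ[k] K ⊗[k] A' := (Φ.toAlgEquiv.toAlgHom).restrictScalars k
  let G : K ⊗[k] A' →ₐ[k] K ⊗[k] A := (Φ.toAlgEquiv.symm.toAlgHom).restrictScalars k
  let φ : A →ₐ[k] K ⊗[k] A' := F.comp includeRight
  let ψ : A' →ₐ[k] K ⊗[k] A := G.comp includeRight
  have hF : ∀ x, F x = ext' φ x := by
    intro x
    induction x using TensorProduct.induction_on with
    | zero => simp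
    | add x y hx hy => simp only [map_add, hx, hy]
    | tmul s a =>
      rw [ext', lift_tmul, includeLeft_apply]
      show Φ (s ⊗ₜ a) = s ⊗ₜ[k] 1 * Φ ((1 : K) ⊗ₜ a)
      rw [show s ⊗ₜ[k] a = s • ((1 : K) ⊗ₜ[k] a) by rw [TensorProduct.smul_tmul', smul_eq_mul, mul_one],
        map_smul, Algebra.smul_def]
      rfl
  have hG : ∀ x, G x = ext' ψ x := by
    intro x
    induction x using TensorProduct.induction_on with
    | zero => simp
    | add x y hx hy => simp only [map_add, hx, hy]
    | tmul s a =>
      rw [ext', lift_tmul, includeLeft_apply]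
      show Φ.toAlgEquiv.symm (s ⊗ₜ a) = s ⊗ₜ[k] 1 * Φ.toAlgEquiv.symm ((1 : K) ⊗ₜ a)
      rw [show s ⊗ₜ[k] a = s • ((1 : K) ⊗ₜ[k] a) by rw [TensorProduct.smul_tmul', smul_eq_mul, mul_one],
        map_smul, Algebra.smul_def]
      rfl
  obtain ⟨R₁, hR₁, h₁⟩ := exists_fg φ
  obtain ⟨R₂, hR₂, h₂⟩ := exists_fg ψ
  let S : Subalgebra k K := R₁ ⊔ R₂
  haveI : Algebra.FiniteType k S := S.fg_iff_finiteType.1 (hR₁.sup hR₂)
  obtain ⟨p⟩ := exists_point (k := k) (R := S) inferInstance
  have hj : ∀ (C : Type u) [CommRing C] [Algebra k C], Function.Injective (coef S.val C) :=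
    fun C _ _ => coef_injective S.val Subtype.val_injective
  let φS : A →ₐ[k] S ⊗[k] A' := (AlgEquiv.ofInjective _ (hj A')).symm.toAlgHom.comp
    (φ.codRestrict (coef S.val A').range fun a => h₁ S le_sup_left ⟨a, rfl⟩)
  let ψS : A' →ₐ[k] S ⊗[k] A := (AlgEquiv.ofInjective _ (hj A)).symm.toAlgHom.comp
    (ψ.codRestrict (coef S.val A).range fun a => h₂ S le_sup_right ⟨a, rfl⟩)
  have hφS : (coef S.val A').comp φS = φ := AlgHom.ext fun a =>
    congrArg Subtype.val ((AlgEquiv.ofInjective _ (hj A')).apply_symm_apply _)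
  have hψS : (coef S.val A).comp ψS = ψ := AlgHom.ext fun a =>
    congrArg Subtype.val ((AlgEquiv.ofInjective _ (hj A)).apply_symm_apply _)
  let f : A →ₐ[k] A' := (ev p A').comp φS
  let g : A' →ₐ[k] A := (ev p A).comp ψS
  have hfg : ∀ a, f (g a) = a := by
    intro a
    have e : ext' φS (ψS a) = (1 : S) ⊗ₜ a := by
      apply hj A'
      rw [coef_ext', hφS, ← hF]
      show F (((coef S.val A).comp ψS) a) = _
      rw [hψS]
      simp only [coef, Algebra.TensorProduct.map_tmul, map_one, AlgHom.id_apply]
      exact Φ.toAlgEquiv.apply_symm_apply _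
    have e' := congrArg (ev p A') e
    rw [ev_ext'] at e'
    simpa [f, g] using e'
  have hgf : ∀ a, g (f a) = a := by
    intro a
    have e : ext' ψS (φS a) = (1 : S) ⊗ₜ a := by
      apply hj A
      rw [coef_ext', hψS, ← hG]
      show G (((coef S.val A').comp φS) a) = _
      rw [hφS]
      simp only [coef, Algebra.TensorProduct.map_tmul, map_one, AlgHom.id_apply]
      exact Φ.toAlgEquiv.symm_apply_apply _
    have e' := congrArg (ev p A) e
    rw [ev_ext'] at e'
    simpa [f, g] using e'
  refine ⟨BialgEquiv.ofAlgEquiv (AlgEquiv.ofAlgHom f g (AlgHom.ext hfg) (AlgHom.ext hgf)) ?_ ?_⟩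
  · refine AlgHom.ext fun a => ?_
    have e : Algebra.TensorProduct.map (AlgHom.id k S) (Bialgebra.counitAlgHom k A') (φS a) =
        (1 : S) ⊗ₜ Bialgebra.counitAlgHom k A a := by
      apply coef_injective S.val Subtype.val_injective
      rw [coef_map]
      show Algebra.TensorProduct.map _ _ (((coef S.val A').comp φS) a) = _
      rw [hφS]
      apply (TensorProduct.rid k K).injective
      have hc : ∀ x : K ⊗[k] A', TensorProduct.rid k K
          (Algebra.TensorProduct.map (AlgHom.id k K) (Bialgebra.counitAlgHom k A') x) =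
          Coalgebra.counit (R := K) x := by
        intro x
        induction x using TensorProduct.induction_on with
        | zero => simp
        | add x y hx hy => simp only [map_add, hx, hy]
        | tmul s c => simp [TensorProduct.counit_tmul]
      rw [hc]
      show Coalgebra.counit (R := K) (Φ ((1 : K) ⊗ₜ a)) = _
      rw [CoalgHomClass.counit_comp_apply, TensorProduct.counit_tmul]
      simp
    have e' := congrArg (ev p k) e
    rw [ev_map] at e'
    simpa [f] using e'
  · refine AlgHom.ext fun a => ?_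
    have e : Algebra.TensorProduct.map (AlgHom.id k S) (Bialgebra.comulAlgHom k A') (φS a) =
        sq φS (Bialgebra.comulAlgHom k A a) := by
      apply hj (A' ⊗[k] A')
      rw [coef_map, coef_sq, hφS]
      show Algebra.TensorProduct.map _ _ (((coef S.val A').comp φS) a) = _
      rw [hφS]
      apply (TensorProduct.AlgebraTensorModule.distribBaseChange k K A' A').injective
      rw [distrib_comul]
      show Coalgebra.comul (R := K) (Φ ((1 : K) ⊗ₜ a)) = _
      rw [← CoalgHomClass.map_comp_comul_apply, TensorProduct.comul_tmul, CommSemiring.comul_apply,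
        Bialgebra.comulAlgHom_apply]
      induction Coalgebra.comul (R := k) a using TensorProduct.induction_on with
      | zero => simp
      | add x y hx hy => simp only [TensorProduct.tmul_add, map_add, hx, hy]
      | tmul x y =>
        rw [sq, lift_tmul]
        simp only [AlgHom.comp_apply]
        erw [distrib_sq]
        simp [φ, F]
    have e' := congrArg (ev p (A' ⊗[k] A')) e
    rw [ev_map, ev_sq] at e'
    exact e'.symm

end Hopf

end Groth.Agent.HopfGeomIso
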